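import Cfsg.Agent.H555.Hall.ZStar_m3
import Cfsg.Agent.H171.Odd.ConwayA
import Cfsg.Agent.BpSpor.MFiveAbs
import Cfsg.Agent.LThreeMB.Six
import Mathlib
import Cfsg.Agent.LThreeFi24.Twin
import Cfsg.Agent.S1694
import Cfsg.Agent.H171.Odd.SuzFive_m3
import Cfsg.Agent.H411.MThree
import Cfsg.Agent.LThreeMB.NegRoot
import Cfsg.Agent.BpSpor.BFiveZero
import Cfsg.Agent.H850.MonSub
import Cfsg.Agent.PreUniq.MonGen
import Cfsg.Agent.FastGrp
import Cfsg.Agent.Prune
set_option linter.all false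

section
prune_inst 0x7f00000000000000000000000000000000000000000000000000000000000000000000000000000000000000000000000000000000000000000000000000000000000000000000000000000000000000003fffffffffffffffffffffffffffbeffbdffffffff

-- part: H573/Hall/Lib
section
set_option linter.all false
open scoped Cfsg.Agent.FastGrp

/-!
# Small tools for the sporadic rows of S4350 (helper573)
-/

set_option autoImplicit false

namespace Cfsg.Agent.H573.Hall

open Subgroup Cfsg Cfsg.Agent.H171.Odd Cfsg.Agent.H553.OddHall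

universe u v

variable {G : Type u} [Group G] {H : Type v} [Group H]

theorem Inv1.congr {s t : ℕ} (e : G ≃* H) (h : Inv1 s t H) : Inv1 s t G := by
  intro S hS hi R hR hn
  have h9 : (S.map e.toMonoidHom).index = S.index := Subgroup.index_map_equiv S e
  have h1 := h (S.map e.toMonoidHom) (hS.map _) (by rwa [h9]) (R.map e.toMonoidHom) (hR.map _) ?_
  · exact (Subgroup.map_eq_bot_iff_of_injective _ e.injective).1 h1
  · rintro _ ⟨g, hg, rfl⟩
    rw [mem_normalizer_iff]
    intro x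
    have h2 := hn hg
    rw [mem_normalizer_iff] at h2
    have h3 : x = e (e.symm x) := (e.apply_symm_apply x).symm
    have h4 := h2 (e.symm x)
    have h5 : ∀ z : G, (e.toMonoidHom z ∈ R.map e.toMonoidHom) ↔ z ∈ R := fun z =>
      Subgroup.mem_map_iff_mem e.injective
    have h6 : x ∈ R.map e.toMonoidHom ↔ e.symm x ∈ R := by
      conv_lhs => rw [h3]
      exact h5 _
    have h7 : e.toMonoidHom g * x * (e.toMonoidHom g)⁻¹ = e.toMonoidHom (g * e.symm x * g⁻¹) := by
      rw [map_mul, map_mul, map_inv]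
      congr 2
    rw [h6, h7, h5]
    exact h4

/-- the centralizers of conjugate elements have the same order -/
theorem card_cent_of_isConj {x y : G} (h : IsConj x y) :
    Nat.card (centralizer ({x} : Set G)) = Nat.card (centralizer ({y} : Set G)) := by
  obtain ⟨g, hg⟩ := isConj_iff.1 h
  refine Nat.card_congr (Equiv.subtypeEquiv (MulAut.conj g).toEquiv fun a => ?_)
  rw [mem_centralizer_singleton_iff, mem_centralizer_singleton_iff, ← hg]
  change a * x = x * a ↔ (g * a * g⁻¹) * (g * x * g⁻¹) = (g * x * g⁻¹) * (g * a * g⁻¹)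
  constructor
  · intro h1
    have h2 : (g * a * g⁻¹) * (g * x * g⁻¹) = g * (a * x) * g⁻¹ := by group
    have h3 : (g * x * g⁻¹) * (g * a * g⁻¹) = g * (x * a) * g⁻¹ := by group
    rw [h2, h3, h1]
  · intro h1
    have h2 : (g * a * g⁻¹) * (g * x * g⁻¹) = g * (a * x) * g⁻¹ := by group
    have h3 : (g * x * g⁻¹) * (g * a * g⁻¹) = g * (x * a) * g⁻¹ := by group
    rw [h2, h3] at h1
    exact mul_left_cancel (mul_right_cancel h1)

/-- an isomorphism preserves the orders of centralizers -/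
theorem card_cent_equiv (e : G ≃* H) (y : G) :
    Nat.card (centralizer ({y} : Set G)) = Nat.card (centralizer ({e y} : Set H)) := by
  refine Nat.card_congr (Equiv.subtypeEquiv e.toEquiv fun a => ?_)
  rw [mem_centralizer_singleton_iff, mem_centralizer_singleton_iff]
  change a * y = y * a ↔ e a * e y = e y * e a
  rw [← map_mul, ← map_mul, e.injective.eq_iff]

/-- the centralizer of a nontrivial power of an element of prime order -/
theorem cent_eq_of_zpow {p : ℕ} (hp : p.Prime) {y z : G} (hz : z ^ p = 1) (hy : y ≠ 1) {i : ℤ} (h : y = z ^ i) :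
    centralizer ({y} : Set G) = centralizer ({z} : Set G) := by
  have hF : Fact p.Prime := ⟨hp⟩
  have hz1 : z ≠ 1 := by
    rintro rfl
    exact hy (by rw [h, one_zpow])
  have hoz : orderOf z = p := orderOf_eq_prime hz hz1
  have hoy : orderOf y = p := by
    refine orderOf_eq_prime ?_ hy
    rw [h, ← zpow_natCast, zpow_comm, zpow_natCast, hz, one_zpow]
  have h1 : zpowers y = zpowers z := by
    have : Finite ↥(zpowers z) := Nat.finite_of_card_ne_zero (by rw [Nat.card_zpowers, hoz]; exact hp.ne_zero)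
    refine eq_of_le_of_card_ge (zpowers_le.2 (by rw [h]; exact zpow_mem (mem_zpowers _) i)) ?_
    rw [Nat.card_zpowers, Nat.card_zpowers, hoy, hoz]
  ext a
  rw [mem_centralizer_singleton_iff, mem_centralizer_singleton_iff]
  constructor
  · intro h2
    have h3 : zpowers y ≤ centralizer {a} := zpowers_le.2 (mem_centralizer_singleton_iff.2 h2.symm)
    rw [h1, zpowers_le] at h3
    exact (mem_centralizer_singleton_iff.1 h3).symm
  · intro h2
    have h3 : zpowers z ≤ centralizer {a} := zpowers_le.2 (mem_centralizer_singleton_iff.2 h2.symm)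
    rw [← h1, zpowers_le] at h3
    exact (mem_centralizer_singleton_iff.1 h3).symm

theorem card_cent_of_conj_zpow {p : ℕ} (hp : p.Prime) {y z g : G} (hz : z ^ p = 1) (hy : y ≠ 1) {i : ℤ}
    (h : g * y * g⁻¹ = z ^ i) :
    Nat.card (centralizer ({y} : Set G)) = Nat.card (centralizer ({z} : Set G)) := by
  rw [card_cent_of_isConj (isConj_iff.2 ⟨g, rfl⟩ : IsConj y (g * y * g⁻¹)),
    cent_eq_of_zpow hp hz (y := g * y * g⁻¹) (fun h1 => hy ?_) h]
  have h2 : y = g⁻¹ * (g * y * g⁻¹) * g := by group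
  rw [h2, h1]
  group

/-- Cauchy in a centralizer -/
theorem exists_of_dvd_cent [Finite G] {p : ℕ} (hp : p.Prime) {y : G} (h : p ∣ Nat.card (centralizer ({y} : Set G))) :
    ∃ x : G, orderOf x = p ∧ x * y = y * x := by
  have hF : Fact p.Prime := ⟨hp⟩
  obtain ⟨⟨x, hx⟩, hxp⟩ := exists_prime_orderOf_dvd_card' p h
  rw [Subgroup.orderOf_mk] at hxp
  exact ⟨x, hxp, mem_centralizer_singleton_iff.1 hx⟩

theorem not_dvd_cent [Finite G] {p : ℕ} (hp : p.Prime) {y : G} (h : ∀ x : G, orderOf x = p → x * y = y * x → False) :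
    ¬ p ∣ Nat.card (centralizer ({y} : Set G)) := fun hd => by
  obtain ⟨x, hx, h1⟩ := exists_of_dvd_cent hp hd
  exact h x hx h1

/-- the order of a group divides the order of a kernel times the order of the target -/
theorem card_dvd_ker_mul [Finite G] [Finite H] (f : G →* H) : Nat.card G ∣ Nat.card ↥f.ker * Nat.card H := by
  rw [← f.ker.card_mul_index, Subgroup.index_ker]
  exact mul_dvd_mul_left _ (card_subgroup_dvd_card _)

end Cfsg.Agent.H573.Hall
end

-- part: H573/Hall/RadBot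
section
set_option linter.all false
open scoped Cfsg.Agent.FastGrp

-- part: H573/Hall/Central
section
/-!
# Reduction to the centralizer of a central element (helper573)
-/

set_option autoImplicit false

namespace Cfsg.Agent.H573.Hall

open Subgroup Cfsg Cfsg.Agent.H171.Odd

universe u

variable {G : Type u} [Group G]

/-- a `t`-subgroup normalised by a Sylow `s`-subgroup `S` is centralised by an element of order `s` of the center of `S` -/
theorem inv1_of_central [Finite G] {s t a b : ℕ} (hs : s.Prime) (ht : t.Prime) (hst : s ≠ t)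
    (ha : s ^ a ∣ Nat.card G) (hb : ¬ t ^ (b + 1) ∣ Nat.card G) (w : ℕ → ℕ)
    (hw : ∀ k, 1 ≤ k → k ≤ b → ¬ s ^ (w k + 1) ∣ t ^ k - 1) (hW : ∑ i ∈ Finset.range b, w (i + 1) < a)
    (h : ∀ x : G, orderOf x = s → ∀ S R : Subgroup G, IsPGroup s S → ¬ s ∣ S.index → x ∈ S →
      S ≤ centralizer ({x} : Set G) → IsPGroup t R → R ≤ centralizer ({x} : Set G) →
      S ≤ normalizer (R : Set G) → R = ⊥) : Inv1 s t G := by
  have hfs : Fact s.Prime := ⟨hs⟩
  have hft : Fact t.Prime := ⟨ht⟩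
  intro S hS hSi R hR hn
  by_contra hne
  obtain ⟨k0, hk0, hc0⟩ := card_pgroup hb hR
  have hd := card_dvd_kernel hst hb w hw hR b S hS hn (fun k j hk _ => by
    have : k = k0 := Nat.pow_right_injective ht.two_le (by show t ^ k = t ^ k0; rw [← hk, ← hc0])
    omega)
  set K := S ⊓ centralizer (R : Set G) with hK
  have hK1 : K ≠ ⊥ := by
    intro h0
    rw [h0, card_bot, one_mul] at hd
    have h1 := (card_sylow ha hSi).trans hd
    have h3 := (Nat.pow_dvd_pow_iff_le_right hs.one_lt).1 h1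
    omega
  -- a central element of `S` in `K`
  have hKn : (K.subgroupOf S).Normal := by
    refine ⟨fun x hx g => ?_⟩
    rw [mem_subgroupOf] at hx ⊢
    refine ⟨(g * x * g⁻¹).2, mem_centralizer_iff.2 fun y hy => ?_⟩
    have h1 : (g : G)⁻¹ * y * g ∈ R := by
      have := (mem_normalizer_iff.1 (hn (S.inv_mem g.2)) y).1 hy
      simpa using this
    have h3 := mem_centralizer_iff.1 hx.2 _ h1
    have h3 : (g : G)⁻¹ * y * g * x = x * ((g : G)⁻¹ * y * g) := h3
    show y * ((g : G) * x * (g : G)⁻¹) = (g : G) * x * (g : G)⁻¹ * y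
    calc y * ((g : G) * x * (g : G)⁻¹) = g * ((g : G)⁻¹ * y * g * x) * (g : G)⁻¹ := by group
      _ = g * (x * ((g : G)⁻¹ * y * g)) * (g : G)⁻¹ := by rw [h3]
      _ = (g : G) * x * (g : G)⁻¹ * y := by group
  have hKS1 : K.subgroupOf S ≠ ⊥ := by
    intro h0
    rw [subgroupOf_eq_bot, disjoint_iff, inf_eq_left.2 (show K ≤ S from inf_le_left)] at h0
    exact hK1 h0
  obtain ⟨⟨z, hzS⟩, hzK, hzC, hord⟩ := Transfer.PGroupNormal.exists_mem_inf_center_orderOf hS _ hKS1
  rw [Subgroup.orderOf_mk] at hord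
  have hSC : S ≤ centralizer ({z} : Set G) := by
    intro g hg
    rw [mem_centralizer_singleton_iff]
    have := mem_center_iff.1 hzC ⟨g, hg⟩
    exact congrArg Subtype.val this
  have hRC : R ≤ centralizer ({z} : Set G) := by
    intro y hy
    rw [mem_centralizer_singleton_iff]
    exact mem_centralizer_iff.1 (mem_subgroupOf.1 hzK).2 y hy
  exact hne (h z hord S R hS hSi hzS hSC hR hRC hn)

end Cfsg.Agent.H573.Hall
end

-- part: H573/Hall/RadInv
section
/-!
# `r`-subgroups normalised by a Sylow `p`-subgroup in the situation `Rad` (helper573)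

`D = N C_D(z)`, `C_N(z) = ⟨x⟩`, `C_D(z) / ⟨x, z⟩ = A` simple. An `r`-subgroup `E ≠ 1` normalised by a Sylow `p`-subgroup `S`
of `D` gives (if `Inv1 p r A`) a normal `r`-subgroup `V ≠ 1` inverted by `z`; if `C_D(V)` is not solvable, it contains `S`, and
`z` is not a square of an element of `C_D(z)`.
-/

set_option autoImplicit false

namespace Cfsg.Agent.H573.Hall.RadInv

open Subgroup Cfsg Cfsg.Agent.BpSpor.M5 Cfsg.Agent.H171.Odd

universe u v

theorem le_normalizer_of_conj {G : Type*} [Group G] {S E : Subgroup G} (h : ∀ g ∈ S, ∀ e ∈ E, g * e * g⁻¹ ∈ E) :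
    S ≤ normalizer (E : Set G) := by
  intro g hg
  rw [mem_normalizer_iff]
  intro e
  refine ⟨fun he => h g hg e he, fun he => ?_⟩
  have h1 := h g⁻¹ (S.inv_mem hg) _ he
  have h2 : g⁻¹ * (g * e * g⁻¹) * g⁻¹⁻¹ = e := by group
  rwa [h2] at h1

theorem conj_of_le_normalizer {G : Type*} [Group G] {S E : Subgroup G} (h : S ≤ normalizer (E : Set G)) :
    ∀ g ∈ S, ∀ e ∈ E, g * e * g⁻¹ ∈ E := fun _ hg _ he => (mem_normalizer_iff.1 (h hg) _).1 he

variable {D : Type u} [Group D] [Finite D] {p : ℕ} [hp : Fact p.Prime] {z x : D} {N : Subgroup D} {A : Type v} [Group A]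
  [hA : IsSimpleGroup A] {f : ↥(centralizer ({z} : Set D)) →* A}

/-- the map onto `A` -/
theorem exists_map (h : Rad p z x N f) (hAc : ¬ Group.IsSolvable A) : ∃ ψ : D →* A, Function.Surjective ψ ∧
    (∀ c : ↥(centralizer ({z} : Set D)), ψ (c : D) = f c) ∧ (∀ n ∈ N, ψ n = 1) ∧
    ∀ g, ψ g = 1 → ∃ n ∈ N, g = n ∨ g = n * z := by
  have hN := h.nN
  let α : ↥(centralizer ({z} : Set D)) →* D ⧸ N := (QuotientGroup.mk' N).comp (centralizer ({z} : Set D)).subtype
  have hα : Function.Surjective α := by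
    intro y
    obtain ⟨g, rfl⟩ := QuotientGroup.mk'_surjective N y
    obtain ⟨n, hn, c, hc, rfl⟩ := h.sup g
    refine ⟨⟨c, mem_centralizer_singleton_iff.2 hc⟩, ?_⟩
    show QuotientGroup.mk' N c = QuotientGroup.mk' N (n * c)
    rw [map_mul, show QuotientGroup.mk' N n = 1 from (QuotientGroup.eq_one_iff _).2 hn, one_mul]
  have hle : ∀ c, α c = 1 → f c = 1 := by
    intro c hc
    have h1 : (c : D) ∈ N := (QuotientGroup.eq_one_iff _).1 hc
    obtain ⟨i, hi⟩ := mem_zpowers_iff.1 (h.cN c h1 (mem_centralizer_singleton_iff.1 c.2))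
    refine h.f_central hAc fun g => Subtype.ext ?_
    show (g : D) * c = c * g
    rw [← hi]
    exact h.xzc i g
  obtain ⟨ρ, hρ⟩ := LThreeMB.exists_fac α hα f (fun a ha => hle a ha)
  refine ⟨ρ.comp (QuotientGroup.mk' N), ?_, hρ, ?_, ?_⟩
  · intro a
    obtain ⟨c, rfl⟩ := h.surj a
    exact ⟨c, hρ c⟩
  · intro n hn
    show ρ (QuotientGroup.mk' N n) = 1
    rw [show QuotientGroup.mk' N n = 1 from (QuotientGroup.eq_one_iff _).2 hn, map_one]
  · intro g hg
    obtain ⟨n, hn, c, hc, rfl⟩ := h.sup g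
    have h1 : f ⟨c, mem_centralizer_singleton_iff.2 hc⟩ = 1 := by
      rw [← hρ]
      have h2 : ρ (QuotientGroup.mk' N (n * c)) = 1 := hg
      rw [map_mul, show QuotientGroup.mk' N n = 1 from (QuotientGroup.eq_one_iff _).2 hn, one_mul] at h2
      exact h2
    obtain ⟨i, hi⟩ := h.ker _ h1
    have hi' : c = x ^ i ∨ c = x ^ i * z := hi
    rcases hi' with hi | hi
    · exact ⟨n * x ^ i, N.mul_mem hn (N.zpow_mem h.xN i), Or.inl (by rw [hi])⟩
    · exact ⟨n * x ^ i, N.mul_mem hn (N.zpow_mem h.xN i), Or.inr (by rw [hi]; group)⟩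

omit [Finite D] hp hA in
/-- an element of odd order of `N ∪ N z` lies in `N` -/
theorem mem_of_odd (h : Rad p z x N f) {g : D} (hg : ∃ n ∈ N, g = n ∨ g = n * z) {m : ℕ} (hm : Odd m) (hgm : g ^ m = 1) :
    g ∈ N := by
  have hN := h.nN
  obtain ⟨n, hn, rfl | rfl⟩ := hg
  · exact hn
  · rw [← QuotientGroup.eq_one_iff]
    have h1 : ((n * z : D) : D ⧸ N) = (z : D ⧸ N) := by
      rw [QuotientGroup.mk_mul, (QuotientGroup.eq_one_iff n).2 hn, one_mul]
    rw [h1]
    have h2 : (z : D ⧸ N) ^ 2 = 1 := by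
      rw [pow_two, ← QuotientGroup.mk_mul, h.zz]; rfl
    have h3 : (z : D ⧸ N) ^ m = 1 := by
      rw [← h1, ← QuotientGroup.mk_pow, hgm]; rfl
    obtain ⟨j, rfl⟩ := hm
    rw [pow_succ, pow_mul, h2, one_pow, one_mul] at h3
    exact h3

/-- **the normal `r`-subgroup** -/
theorem exists_V (h : Rad p z x N f) (hAc : ¬ Group.IsSolvable A) (hp2 : p ≠ 2) {r : ℕ} (hr : r.Prime) (hr2 : r ≠ 2)
    (hrp : r ≠ p) (hinv : Inv1 p r A) {S E : Subgroup D} (hS : IsPGroup p ↥S) (hSi : ¬ p ∣ S.index) (hE : IsPGroup r ↥E)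
    (hn : S ≤ normalizer (E : Set D)) (hne : E ≠ ⊥) :
    ∃ V : Subgroup D, V.Normal ∧ IsPGroup r ↥V ∧ V ≠ ⊥ ∧ V ≤ N ∧ N ≤ centralizer (V : Set D) ∧
      ∀ v ∈ V, z * v * z⁻¹ = v⁻¹ := by
  have hrF : Fact r.Prime := ⟨hr⟩
  have hN := h.nN
  obtain ⟨ψ, hψ, hψf, hψN, hψk⟩ := exists_map h hAc
  -- `E ≤ N`
  have hE1 : E.map ψ = ⊥ := by
    refine hinv (S.map ψ) (hS.map ψ) (fun hd => hSi (hd.trans (index_map_dvd S hψ))) (E.map ψ) (hE.map ψ) ?_
    refine le_normalizer_of_conj ?_
    rintro _ ⟨s, hs, rfl⟩ _ ⟨e, he, rfl⟩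
    exact ⟨s * e * s⁻¹, conj_of_le_normalizer hn s hs e he, by rw [map_mul, map_mul, map_inv]⟩
  have hEN : E ≤ N := by
    intro e he
    have h1 : ψ e = 1 := by
      have h2 : ψ e ∈ E.map ψ := mem_map_of_mem ψ he
      rwa [hE1, mem_bot] at h2
    obtain ⟨k, hk⟩ := hE ⟨e, he⟩
    exact mem_of_odd h (hψk e h1) ((hr.odd_of_ne_two hr2).pow (n := k)) (congrArg Subtype.val hk)
  -- the Sylow `r`-subgroup of `N`
  have hnil : Group.IsNilpotent ↥N := h.isNilpotent hp2
  obtain ⟨P⟩ : Nonempty (Sylow r ↥N) := inferInstance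
  have hPn : (P : Subgroup ↥N).Normal := inferInstance
  have hPc : (P : Subgroup ↥N).Characteristic := Sylow.characteristic_of_normal P hPn
  let V : Subgroup D := (P : Subgroup ↥N).map N.subtype
  have hVn : V.Normal := ConjAct.normal_of_characteristic_of_normal
  have hVp : IsPGroup r ↥V := P.isPGroup'.map _
  have hVN : V ≤ N := map_subtype_le _
  have hEV : E ≤ V := by
    have h1 : IsPGroup r ↥(E.subgroupOf N) := hE.comap_of_injective N.subtype N.subtype_injective
    obtain ⟨P', hP'⟩ := h1.exists_le_sylow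
    have : Subsingleton (Sylow r ↥N) := by
      have := Sylow.unique_of_normal P hPn
      infer_instance
    rw [Subsingleton.elim P' P] at hP'
    intro e he
    exact ⟨⟨e, hEN he⟩, hP' (mem_subgroupOf.2 he), rfl⟩
  have hVx : ∀ i : ℤ, x ^ i ∈ V → x ^ i = 1 := by
    intro i hi
    obtain ⟨k, hk⟩ := hVp ⟨x ^ i, hi⟩
    have h1 : (x ^ i) ^ r ^ k = 1 := congrArg Subtype.val hk
    have h2 : (x ^ i) ^ p = 1 := by
      rw [← zpow_natCast, ← zpow_mul, mul_comm, zpow_mul, zpow_natCast, ← h.ox, pow_orderOf_eq_one, one_zpow]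
    have h3 : orderOf (x ^ i) ∣ Nat.gcd (r ^ k) p := Nat.dvd_gcd (orderOf_dvd_of_pow_eq_one h1) (orderOf_dvd_of_pow_eq_one h2)
    have h4 : Nat.gcd (r ^ k) p = 1 := Nat.Coprime.pow_left k ((Nat.coprime_primes hr hp.out).2 hrp)
    rw [h4, Nat.dvd_one, orderOf_eq_one_iff] at h3
    exact h3
  refine ⟨V, hVn, hVp, ?_, hVN, ?_, ?_⟩
  · intro h1
    rw [h1, le_bot_iff] at hEV
    exact hne hEV
  · intro n hn
    rw [mem_centralizer_iff]
    intro v hv
    obtain ⟨i, hi⟩ := h.comm hp2 hn (hVN hv)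
    have h1 : x ^ i = v⁻¹ * (n * v * n⁻¹) := by rw [hi]; group
    have h2 : x ^ i = 1 := hVx i (by
      rw [h1]
      exact V.mul_mem (V.inv_mem hv) (hVn.conj_mem v hv n))
    rw [h2, mul_one] at hi
    exact (mul_inv_eq_iff_eq_mul.1 hi).symm
  · intro v hv
    obtain ⟨i, hi⟩ := h.inv hp2 (hVN hv)
    have h1 : x ^ i = v * (z * v * z⁻¹) := by rw [hi]; group
    have h2 : x ^ i = 1 := hVx i (by
      rw [h1]
      exact V.mul_mem hv (hVn.conj_mem v hv z))
    rw [h2, mul_one] at hi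
    exact hi

/-- if `z` is a square then `C_D(V)` is solvable -/
theorem no_V (h : Rad p z x N f) (hp2 : p ≠ 2) {k : ↥(centralizer ({z} : Set D))} (hk : (k : D) * k = z) {r : ℕ}
    (hr : r.Prime) (hr2 : r ≠ 2) {V : Subgroup D} (hV : V.Normal) (hVr : IsPGroup r ↥V)
    (hNV : N ≤ centralizer (V : Set D)) (hz : ∀ v ∈ V, z * v * z⁻¹ = v⁻¹)
    (hs : ¬ Group.IsSolvable ↥(centralizer (V : Set D))) : V = ⊥ := by
  obtain ⟨c, hc, n, hn, he⟩ := h.z_mem_sup hp2 hk (centralizer (V : Set D)) hs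
  have hzC : z ∈ centralizer (V : Set D) := by rw [he]; exact mul_mem hc (hNV hn)
  rw [eq_bot_iff]
  intro v hv
  rw [mem_bot]
  have h1 := hz v hv
  rw [← mem_centralizer_iff.1 hzC v hv, mul_inv_cancel_right] at h1
  have h2 : v ^ 2 = 1 := by
    rw [pow_two]
    nth_rewrite 2 [h1]
    exact mul_inv_cancel v
  obtain ⟨j, hj⟩ := hVr ⟨v, hv⟩
  have hj' : v ^ r ^ j = 1 := congrArg Subtype.val hj
  obtain ⟨m, hm⟩ := (hr.odd_of_ne_two hr2).pow (n := j)
  rw [hm, pow_succ, pow_mul, h2, one_pow, one_mul] at hj'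
  exact hj'

/-- the criterion for `C_D(V)` not solvable -/
theorem not_solvable (h : Rad p z x N f) (hAc : ¬ Group.IsSolvable A) {r b : ℕ} (hr : r.Prime)
    (hb : ¬ r ^ (b + 1) ∣ Nat.card D) {s e : ℕ} (hs : s.Prime) (hsr : s ≠ r) (he : s ^ e ∣ Nat.card A) (w : ℕ → ℕ)
    (hw : ∀ k, 1 ≤ k → k ≤ b → ¬ s ^ (w k + 1) ∣ r ^ k - 1) (hW : ∑ i ∈ Finset.range b, w (i + 1) < e)
    {V : Subgroup D} (hV : V.Normal) (hVr : IsPGroup r ↥V) : ¬ Group.IsSolvable ↥(centralizer (V : Set D)) := by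
  have hsF : Fact s.Prime := ⟨hs⟩
  have hrF : Fact r.Prime := ⟨hr⟩
  intro hsol
  obtain ⟨ψ, hψ, hψf, hψN, hψk⟩ := exists_map h hAc
  have hfinA : Finite A := Finite.of_surjective ψ hψ
  -- `C_D(V)` maps to 1
  have hCn : (centralizer (V : Set D)).Normal := inferInstance
  have h1 : (centralizer (V : Set D)).map ψ = ⊥ := by
    rcases (hCn.map ψ hψ).eq_bot_or_eq_top with h2 | h2
    · exact h2
    · exfalso
      apply hAc
      have h3 : Group.IsSolvable ↥((centralizer (V : Set D)).map ψ) :=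
        Group.isSolvable_of_surjective (ψ.subgroupMap_surjective _)
      rw [h2] at h3
      exact Group.isSolvable_of_surjective (f := (Subgroup.topEquiv (G := A)).toMonoidHom) (Subgroup.topEquiv (G := A)).surjective
  obtain ⟨T⟩ : Nonempty (Sylow s D) := inferInstance
  obtain ⟨k0, hk0, hc0⟩ := card_pgroup hb hVr
  have hd := card_dvd_kernel hsr hb w hw hVr b (T : Subgroup D) T.2 (le_normalizer_of_conj fun g _ v hv => hV.conj_mem v hv g)
    (fun k j hk _ => by
      have : k = k0 := Nat.pow_right_injective hr.two_le (by show r ^ k = r ^ k0; rw [← hk, ← hc0])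
      omega)
  -- the image of `T`
  have h2 : s ^ e ∣ Nat.card ↥((T : Subgroup D).map ψ) := by
    have h3 : ¬ s ∣ ((T : Subgroup D).map ψ).index := fun h4 => T.not_dvd_index (h4.trans (index_map_dvd _ hψ))
    exact card_sylow he h3
  let g : ↥(T : Subgroup D) →* A := ψ.comp (T : Subgroup D).subtype
  have h3 : Nat.card ↥(T : Subgroup D) = Nat.card ↥g.ker * Nat.card ↥((T : Subgroup D).map ψ) := by
    have h3' : g.range = (T : Subgroup D).map ψ := by
      ext a
      constructor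
      · rintro ⟨t, rfl⟩
        exact ⟨t, t.2, rfl⟩
      · rintro ⟨t, ht, rfl⟩
        exact ⟨⟨t, ht⟩, rfl⟩
    rw [← g.ker.card_mul_index, Subgroup.index_ker, h3']
  have h4 : Nat.card ↥((T : Subgroup D) ⊓ centralizer (V : Set D)) ∣ Nat.card ↥g.ker := by
    rw [← card_map_of_injective (K := g.ker) (T : Subgroup D).subtype_injective]
    apply card_dvd_of_le
    rintro t ⟨ht, htC⟩
    refine ⟨⟨t, ht⟩, ?_, rfl⟩
    have h5 : ψ t ∈ (centralizer (V : Set D)).map ψ := mem_map_of_mem ψ htC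
    rw [h1, mem_bot] at h5
    exact h5
  have h5 : Nat.card ↥g.ker * s ^ e ∣ Nat.card ↥g.ker * s ^ (∑ i ∈ Finset.range b, w (i + 1)) := by
    refine (Nat.mul_dvd_mul_left _ h2).trans ?_
    rw [← h3]
    exact hd.trans (Nat.mul_dvd_mul_right h4 _)
  have h6 := Nat.dvd_of_mul_dvd_mul_left Nat.card_pos h5
  have h7 := (Nat.pow_dvd_pow_iff_le_right hs.one_lt).1 h6
  omega

end Cfsg.Agent.H573.Hall.RadInv
end

-- part: H573/Hall/RadBot
section
/-!
# `Inv1 p r` in the situation `Rad` with `z` a square (helper573)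
-/

set_option autoImplicit false

namespace Cfsg.Agent.H573.Hall

open Subgroup Cfsg Cfsg.Agent.BpSpor.M5 Cfsg.Agent.H171.Odd

universe u v

/-- the criterion with `z` a square -/
theorem RadInv.inv1 {D : Type u} [Group D] [Finite D] {p : ℕ} [hp : Fact p.Prime] {z x : D} {N : Subgroup D} {A : Type v}
    [Group A] [hA : IsSimpleGroup A] {f : ↥(centralizer ({z} : Set D)) →* A} (h : Rad p z x N f)
    (hAc : ¬ Group.IsSolvable A) (hp2 : p ≠ 2) {k : ↥(centralizer ({z} : Set D))} (hk : (k : D) * k = z) {r b : ℕ}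
    (hr : r.Prime) (hr2 : r ≠ 2) (hrp : r ≠ p) (hinv : Inv1 p r A) (hb : ¬ r ^ (b + 1) ∣ Nat.card D) {s e : ℕ}
    (hs : s.Prime) (hsr : s ≠ r) (he : s ^ e ∣ Nat.card A) (w : ℕ → ℕ)
    (hw : ∀ k, 1 ≤ k → k ≤ b → ¬ s ^ (w k + 1) ∣ r ^ k - 1) (hW : ∑ i ∈ Finset.range b, w (i + 1) < e) : Inv1 p r D := by
  intro S hS hSi E hE hn
  by_contra hne
  obtain ⟨V, hV, hVr, hV1, hVN, hNV, hz⟩ := RadInv.exists_V h hAc hp2 hr hr2 hrp hinv hS hSi hE hn hne
  exact hV1 (RadInv.no_V h hp2 hk hr hr2 hV hVr hNV hz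
    (RadInv.not_solvable h hAc hr hb hs hsr he w hw hW hV hVr))

/-- a group of order prime to `r` -/
theorem inv1_of_not_dvd {G : Type*} [Group G] [Finite G] {s t : ℕ} (ht : t.Prime) (h : ¬ t ∣ Nat.card G) : Inv1 s t G := by
  have hF : Fact t.Prime := ⟨ht⟩
  intro S _ _ R hR _
  obtain ⟨n, hn⟩ := IsPGroup.iff_card.1 hR
  cases n with
  | zero => exact card_eq_one.1 (by rw [hn, pow_zero])
  | succ n => exact absurd ((dvd_pow_self t (Nat.succ_ne_zero n)).trans (hn ▸ card_subgroup_dvd_card R)) h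

/-- `Inv1` from the centralizers of the `s`-central elements of order `s` -/
theorem inv1_of_cc {G : Type*} [Group G] [Finite G] {s t a b : ℕ} (hs : s.Prime) (ht : t.Prime) (hst : s ≠ t)
    (ha : s ^ a ∣ Nat.card G) (hb : ¬ t ^ (b + 1) ∣ Nat.card G) (w : ℕ → ℕ)
    (hw : ∀ k, 1 ≤ k → k ≤ b → ¬ s ^ (w k + 1) ∣ t ^ k - 1) (hW : ∑ i ∈ Finset.range b, w (i + 1) < a)
    (h : ∀ x : G, orderOf x = s → ¬ s ∣ (centralizer ({x} : Set G)).index →
      Inv1 s t ↥(centralizer ({x} : Set G))) : Inv1 s t G := by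
  refine inv1_of_central hs ht hst ha hb w hw hW fun x hx S R hS hSi hxS hSC hR hRC hn => ?_
  have hxi : ¬ s ∣ (centralizer ({x} : Set G)).index := fun h1 => hSi (h1.trans (index_dvd_of_le hSC))
  have h1 : ¬ s ∣ (S.subgroupOf (centralizer ({x} : Set G))).index := by
    intro h1
    apply hSi
    rw [← relIndex_mul_index hSC]
    exact Dvd.dvd.mul_right h1 _
  have h2 := h x hx hxi (S.subgroupOf _) (hS.comap_of_injective _ (subtype_injective _)) h1 (R.subgroupOf _)
    (hR.comap_of_injective _ (subtype_injective _)) (RadInv.le_normalizer_of_conj fun g hg e he =>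
      mem_subgroupOf.2 (RadInv.conj_of_le_normalizer hn g (mem_subgroupOf.1 hg) e (mem_subgroupOf.1 he)))
  rw [subgroupOf_eq_bot, disjoint_iff, inf_eq_left.2 hRC] at h2
  exact h2

/-- `Inv1` for the centralizers of conjugate elements -/
theorem inv1_cent_of_conj {G : Type*} [Group G] {s t : ℕ} {x y g : G} (h : g * x * g⁻¹ = y)
    (hy : Inv1 s t ↥(centralizer ({y} : Set G))) : Inv1 s t ↥(centralizer ({x} : Set G)) := by
  obtain ⟨⟨e⟩, -⟩ := LThreeMB.exists_XX_equiv h
  exact Inv1.congr e hy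

end Cfsg.Agent.H573.Hall
end
end

-- part: H573/Hall/Orb
section
set_option linter.all false
open scoped Cfsg.Agent.FastGrp

/-!
# Small orbits of `p`-groups, and sets of pairwise noncommuting 3-transpositions (helper573)
-/

set_option autoImplicit false

namespace Cfsg.Agent.H573.Hall

open Subgroup

universe u

/-- a small orbit of a `p`-group -/
theorem exists_small {T : Type*} [Group T] [Finite T] {X : Type*} [MulAction T X] [Finite X] {p k : ℕ}
    [hp : Fact p.Prime] (hT : IsPGroup p T) (h : ¬ p ^ (k + 1) ∣ Nat.card X) :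
    ∃ x : X, Nat.card T ∣ Nat.card (MulAction.stabilizer T x) * p ^ k := by
  classical
  by_contra hno
  push Not at hno
  apply h
  have hsum := MulAction.selfEquivSigmaOrbits T X
  rw [Nat.card_congr hsum]
  have hfin : Fintype X := Fintype.ofFinite _
  have : Fintype (Quotient (MulAction.orbitRel T X)) := Fintype.ofFinite _
  rw [Nat.card_sigma]
  refine Finset.dvd_sum fun q _ => ?_
  have horb : ∀ y : X, p ^ (k + 1) ∣ Nat.card (MulAction.orbit T y) := by
    intro y
    have h1 := (MulAction.stabilizer T y).card_mul_index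
    rw [MulAction.index_stabilizer, ← Nat.card_coe_set_eq] at h1
    obtain ⟨n, hn⟩ := hT.exists_card_eq
    have h3 : Nat.card (MulAction.orbit T y) ∣ p ^ n := by
      rw [← hn]
      exact Dvd.intro_left _ h1
    obtain ⟨j, hj, hj'⟩ := (Nat.dvd_prime_pow hp.out).1 h3
    rw [hj']
    apply pow_dvd_pow
    by_contra hlt
    apply hno y
    have h8 : Nat.card T = Nat.card (MulAction.stabilizer T y) * p ^ j := by
      rw [← hj', h1]
    rw [h8]
    exact Nat.mul_dvd_mul_left _ (pow_dvd_pow p (by omega))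
  exact horb _

/-- a `p`-subgroup meets a conjugate of a subgroup whose index has small `p`-part in a big subgroup -/
theorem exists_conj_inf {F : Type*} [Group F] [Finite F] {p k : ℕ} [hp : Fact p.Prime] {T : Subgroup F}
    (hT : IsPGroup p T) (H : Subgroup F) (h : ¬ p ^ (k + 1) ∣ H.index) :
    ∃ g : F, ∃ T1 : Subgroup F, T1 ≤ T ∧ (∀ t ∈ T1, g⁻¹ * t * g ∈ H) ∧ Nat.card T ∣ Nat.card T1 * p ^ k := by
  obtain ⟨x, hx⟩ := exists_small (T := T) (X := F ⧸ H) hT (k := k) h
  obtain ⟨g, rfl⟩ := QuotientGroup.mk_surjective x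
  refine ⟨g, (MulAction.stabilizer T ((g : F) : F ⧸ H)).map T.subtype, ?_, ?_, ?_⟩
  · rintro _ ⟨t, -, rfl⟩
    exact t.2
  · rintro _ ⟨t, ht, rfl⟩
    have h1 : (((t : F) * g : F) : F ⧸ H) = ((g : F) : F ⧸ H) := ht
    rw [QuotientGroup.eq] at h1
    have h2 := H.inv_mem h1
    have h3 : ((↑t * g)⁻¹ * g)⁻¹ = g⁻¹ * (t : F) * g := by group
    rw [h3] at h2
    exact h2
  · rw [card_map_of_injective T.subtype_injective]
    exact hx

/-- an element of order prime to the index lies in a conjugate -/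
theorem exists_conj_mem_of_index {F : Type*} [Group F] [Finite F] {r : ℕ} (hr : r.Prime) {y : F} (hy : orderOf y = r)
    (H : Subgroup F) (h : ¬ r ∣ H.index) : ∃ g : F, g⁻¹ * y * g ∈ H := by
  have : Fact r.Prime := ⟨hr⟩
  obtain ⟨g, T1, h1, h2, h3⟩ := exists_conj_inf (p := r) (k := 0) (T := zpowers y)
    (IsPGroup.of_card (n := 1) (by rw [Nat.card_zpowers, hy, pow_one])) H (by rwa [zero_add, pow_one])
  refine ⟨g, h2 y ?_⟩
  rw [pow_zero, mul_one] at h3
  have h4 : T1 = zpowers y := eq_of_le_of_card_ge h1 (Nat.le_of_dvd Nat.card_pos h3)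
  rw [h4]
  exact mem_zpowers y

/-- **a conjugation-closed set of pairwise noncommuting 3-transpositions**: an element of prime order `r ≠ 3` commutes
with one of them -/
theorem exists_comm_of_htset {X : Type u} [Group X] [Finite X] {D : Set X} (h : Cfsg.Agent.Fischer.Hall.HTSet D)
    {d : X} (hd : d ∈ D) {r : ℕ} (hr : r.Prime) (hr3 : r ≠ 3) {y : X} (hy : orderOf y = r) :
    ∃ e ∈ D, y * e = e * y := by
  let N : Subgroup X := closure {g : X | ∃ d ∈ D, ∃ e ∈ D, g = d * e}
  have hN : IsPGroup 3 N := Cfsg.Agent.Fischer.Hall.isPGroup_closure_products h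
  let H : Subgroup X := centralizer {d}
  have hdsq := h.sq d hd
  have hdi : d⁻¹ = d := inv_eq_of_mul_eq_one_left hdsq
  -- the index of `H` is a power of 3
  have h1 : ∀ x : X, ∃ n ∈ N, n⁻¹ * x ∈ H := by
    intro x
    let e := x * d * x⁻¹
    have he : e ∈ D := h.cj x d hd
    have hei : e⁻¹ = e := inv_eq_of_mul_eq_one_left (h.sq e he)
    have hb := h.br d hd e he
    refine ⟨d * e, subset_closure ⟨d, hd, e, he, rfl⟩, ?_⟩
    rw [mem_centralizer_singleton_iff]
    -- `(d e) d (d e)⁻¹ = d e d e d = e`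
    have h2 : (d * e) * d * (d * e)⁻¹ = e := by
      rw [mul_inv_rev, hdi, hei]
      calc d * e * d * (e * d) = (d * e * d) * e * d := by group
        _ = e * d * e * e * d := by rw [hb]
        _ = e * d * (e * e) * d := by group
        _ = e * (d * d) := by rw [h.sq e he]; group
        _ = e := by rw [hdsq, mul_one]
    have h3 : d = (d * e)⁻¹ * e * (d * e) := by
      rw [← h2]
      conv_rhs => rw [h2]
      have : (d * e)⁻¹ * ((d * e) * d * (d * e)⁻¹) * (d * e) = d := by group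
      rw [h2] at this
      exact this.symm
    have h4 : x * d = e * x := by
      change x * d = x * d * x⁻¹ * x
      group
    calc (d * e)⁻¹ * x * d = (d * e)⁻¹ * (x * d) := by group
      _ = (d * e)⁻¹ * e * x := by rw [h4]; group
      _ = ((d * e)⁻¹ * e * (d * e)) * ((d * e)⁻¹ * x) := by group
      _ = d * ((d * e)⁻¹ * x) := by rw [← h3]
  have h2 : H.index ∣ Nat.card N := by
    have h3 : Function.Surjective (fun n : N => (((n : X)) : X ⧸ H)) := by
      intro q
      obtain ⟨x, rfl⟩ := QuotientGroup.mk_surjective q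
      obtain ⟨n, hn, hn'⟩ := h1 x
      exact ⟨⟨n, hn⟩, QuotientGroup.eq.2 hn'⟩
    have h4 : H.index = H.relIndex N := by
      unfold relIndex index
      refine (Nat.card_congr (Equiv.ofBijective (fun q : ↥N ⧸ H.subgroupOf N =>
        Quotient.map' (s₁ := QuotientGroup.leftRel (H.subgroupOf N)) (s₂ := QuotientGroup.leftRel H) (fun n : ↥N => (n : X)) (by
          intro a b hab
          rw [QuotientGroup.leftRel_apply] at hab ⊢
          exact hab) q) ⟨?_, ?_⟩)).symm
      · intro a b hab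
        induction a using QuotientGroup.induction_on with | _ a => ?_
        induction b using QuotientGroup.induction_on with | _ b => ?_
        have h5 : (((a : X)) : X ⧸ H) = ((b : X) : X ⧸ H) := hab
        rw [QuotientGroup.eq] at h5
        exact QuotientGroup.eq.2 h5
      · intro q
        obtain ⟨n, hn⟩ := h3 q
        exact ⟨((n : ↥N) : ↥N ⧸ H.subgroupOf N), hn⟩
    rw [h4]
    exact relIndex_dvd_card _ _
  have h3 : ¬ r ∣ H.index := by
    intro h4
    have : Fact (Nat.Prime 3) := ⟨Nat.prime_three⟩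
    obtain ⟨n, hn⟩ := hN.exists_card_eq
    have h5 := h4.trans h2
    rw [hn] at h5
    exact hr3 ((Nat.prime_dvd_prime_iff_eq hr Nat.prime_three).1 (hr.dvd_of_dvd_pow h5))
  obtain ⟨g, hg⟩ := exists_conj_mem_of_index hr hy H h3
  refine ⟨g * d * g⁻¹, h.cj g d hd, ?_⟩
  have h4 := mem_centralizer_singleton_iff.1 hg
  calc y * (g * d * g⁻¹) = g * (g⁻¹ * y * g * d) * g⁻¹ := by group
    _ = g * (d * (g⁻¹ * y * g)) * g⁻¹ := by rw [h4]
    _ = (g * d * g⁻¹) * y := by group

end Cfsg.Agent.H573.Hall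
end

-- part: H171/Odd/CoRowsB
section
set_option linter.all false
open scoped Cfsg.Agent.FastGrp

/-!
# The rows `Co₁`, `Suz` (helper171)
-/

set_option autoImplicit false
set_option maxRecDepth 100000

namespace Cfsg.Agent.H171.Odd

open Cfsg Subgroup Cfsg.Agent.H553.OddHall

universe u

/-- the table of `Suz` -/
theorem inv_suz {G : Type*} [Group G] (h : Spor.IsoSuz G) : Inv1 3 5 G ∧ Inv1 3 7 G ∧ Inv1 3 11 G ∧ Inv1 3 13 G := by
  have hc : Nat.card G = 448345497600 := by
    obtain ⟨e⟩ := h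
    rw [Nat.card_congr e.toEquiv, S1694.result.2]
  have hf : Finite G := Nat.finite_of_card_ne_zero (by rw [hc]; norm_num)
  have h1 := CoOne.tab_suz hc h
  exact ⟨h1 (3, 5) (by simp), h1 (3, 7) (by simp), h1 (3, 11) (by simp), h1 (3, 13) (by simp)⟩

variable {G : Type u} [Group G] [Finite G] [IsSimpleGroup G]

theorem oddC_co1 (h : Spor.IsoCo1 G) (hnc : ¬ IsMulCommutative G) (hind : OddInd G) : OddC G := by
  obtain ⟨e⟩ := h
  have hc : Nat.card G = 4157776806543360000 := by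
    rw [Nat.card_congr e.toEquiv, S0399.result.2]
  refine oddC_of_cert hnc hind hc (L := [(3, 9), (5, 4), (7, 2), (11, 1), (13, 1), (23, 1)])
    (T := [(3, 5), (3, 7), (3, 11), (3, 13)])
    (by simp only [List.mem_cons, List.not_mem_nil, or_false]; rintro x (rfl | rfl | rfl | rfl | rfl | rfl) <;> norm_num)
    (CoOne.tab hc e) (by decide +kernel)

theorem oddC_suz (h : Spor.IsoSuz G) (hnc : ¬ IsMulCommutative G) (hind : OddInd G) : OddC G := by
  have hc : Nat.card G = 448345497600 := by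
    obtain ⟨e⟩ := h
    rw [Nat.card_congr e.toEquiv, S1694.result.2]
  refine oddC_of_cert hnc hind hc (L := [(3, 7), (5, 2), (7, 1), (11, 1), (13, 1)])
    (T := [(3, 5), (3, 7), (3, 11), (3, 13)])
    (by simp only [List.mem_cons, List.not_mem_nil, or_false]; rintro x (rfl | rfl | rfl | rfl | rfl) <;> norm_num)
    (CoOne.tab_suz hc h) (by decide +kernel)

end Cfsg.Agent.H171.Odd
end

-- part: H573/Hall/MThree
section
set_option linter.all false
open scoped Cfsg.Agent.FastGrp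

/-!
# The Monster, `p = 3` (helper573)

* `exists_zero` : a `3`-central element of order 3 is conjugate to an element of fixed rank 0 of `C(z)` (helper411's proof);
* `inv_model` : `Inv1 3 r M` from `Inv1 3 r Suz`.
-/

set_option autoImplicit false

namespace Cfsg.Agent.H573.Hall.MThr

open Subgroup Cfsg Cfsg.Agent.H171.Odd Cfsg.Agent.H749
open Cfsg.Agent.MonsterU Cfsg.Agent.LThree Cfsg.Agent.LThreeMB
open Cfsg.Agent.MonsterU.Ch
open Cfsg.Agent.MonsterU.Lam2 (L2 IsType)
open Cfsg.Agent.H411 (FiCent.exists_inv_of_iso)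
open Cfsg.Agent.H411.MThree (iso_of_rank exists_lift_inv card_cent)
open Cfsg.Spor (Co1)

universe u

local instance : Fact (Nat.Prime 3) := ⟨Nat.prime_three⟩

section chart

variable {G : Type u} [Group G] {Q : Subgroup G} {z : G} {eta : G → L2}
  {pi : Subgroup.centralizer ({z} : Set G) →* Co1}

/-- a `3`-central element of order 3 has fixed rank 0 -/
theorem exists_zero [Finite G] [IsSimpleGroup G] (h : Chart Q z eta pi) (I : CoOne) (h0 : ClassOf 1) (ht : TrNe z pi)
    (hpair : HasPair z pi)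
    (hex : ∀ x : G, orderOf x = 3 → (∃ v : G, v * v = 1 ∧ v ≠ 1 ∧ v * x = x * v) →
      ∃ g : G, (g * z * g⁻¹) * x = x * (g * z * g⁻¹))
    (hcard : 3 ^ 20 ∣ Nat.card G) {d₁ : G} (hn₁ : orderOf d₁ = 3) (hidx : ¬ 3 ∣ (centralizer ({d₁} : Set G)).index) :
    ∃ x₀ : Subgroup.centralizer ({z} : Set G), orderOf x₀ = 3 ∧ fr (pi x₀) = 1 ∧ ∃ k : G, k * d₁ * k⁻¹ = x₀ := by
  -- the element of fixed rank 12
  obtain ⟨s, hs, hfs, -, -⟩ := I.psu
  obtain ⟨x, hx, hxs⟩ := KPair.exists_order_three h hs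
  have hxF : Spor.IsoFi24' (XX (x : G)) := (iso_of_rank h I hx).2 (by rw [hxs]; exact hfs)
  have hxo : orderOf (x : G) = 3 := by rw [Subgroup.orderOf_coe]; exact hx
  -- Sylow subgroups
  have hzx : IsPGroup 3 (zpowers (self (x : G))) := isPGroup_zpowers ⟨1, by
    rw [pow_one]
    exact Subtype.ext (by show (x : G) ^ 3 = 1; rw [← hxo, pow_orderOf_eq_one])⟩
  obtain ⟨T, hT⟩ := hzx.exists_le_sylow
  have hxT : self (x : G) ∈ (T : Subgroup _) := hT (mem_zpowers _)
  have hT' : IsPGroup 3 ((T : Subgroup ↥(centralizer ({(x : G)} : Set G))).map (centralizer ({(x : G)} : Set G)).subtype) :=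
    T.2.map _
  -- a conjugate of `T` centralises `d`
  obtain ⟨g₁, T1, hT1, hT1d, hTc⟩ := exists_conj_inf (p := 3) (k := 0) hT' (centralizer ({d₁} : Set G)) (by
    rwa [zero_add, pow_one])
  rw [pow_zero, mul_one] at hTc
  have hT1e : T1 = (T : Subgroup ↥(centralizer ({(x : G)} : Set G))).map (centralizer ({(x : G)} : Set G)).subtype :=
    eq_of_le_of_card_ge hT1 (Nat.le_of_dvd Nat.card_pos hTc)
  rw [hT1e] at hT1d
  set d := g₁ * d₁ * g₁⁻¹ with hd
  have hdc : ∀ s ∈ (T : Subgroup ↥(centralizer ({(x : G)} : Set G))).map (centralizer ({(x : G)} : Set G)).subtype,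
      s * d = d * s := by
    intro s hs
    have h1 : g₁⁻¹ * s * g₁ * d₁ = d₁ * (g₁⁻¹ * s * g₁) := mem_centralizer_singleton_iff.1 (hT1d s hs)
    calc s * (g₁ * d₁ * g₁⁻¹) = g₁ * (g₁⁻¹ * s * g₁ * d₁) * g₁⁻¹ := by group
      _ = g₁ * (d₁ * (g₁⁻¹ * s * g₁)) * g₁⁻¹ := by rw [h1]
      _ = g₁ * d₁ * g₁⁻¹ * s := by group
  have hn : orderOf d = 3 := by
    rw [← hn₁]
    exact MulEquiv.orderOf_eq (MulAut.conj g₁) d₁
  have hdcard : 3 ^ 20 ∣ Nat.card ↥(centralizer ({d} : Set G)) := by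
    rw [← card_cent_of_isConj (isConj_iff.2 ⟨g₁, rfl⟩ : IsConj d₁ d)]
    refine Nat.Coprime.dvd_of_dvd_mul_right (k := 3 ^ 20) (n := (centralizer ({d₁} : Set G)).index) ?_ ?_
    · exact Nat.Coprime.pow_left 20 ((Nat.Prime.coprime_iff_not_dvd Nat.prime_three).2 hidx)
    · rw [Subgroup.card_mul_index]; exact hcard
  -- `d` commutes with an involution
  have hdx : d * (x : G) = x * d := (hdc _ ⟨self (x : G), hxT, rfl⟩).symm
  have hdinv : ∃ v : G, v * v = 1 ∧ v ≠ 1 ∧ v * d = d * v := by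
    have hfX : Finite (XX (x : G)) := Quotient.finite _
    have h1 : ¬ 3 ∣ (centralizer ({mk (x : G) hdx} : Set (XX (x : G)))).index := by
      intro h2
      have h3 : (T : Subgroup ↥(centralizer ({(x : G)} : Set G))).map (QuotientGroup.mk' (Zx (x : G))) ≤
          centralizer ({mk (x : G) hdx} : Set (XX (x : G))) := by
        rintro _ ⟨τ, hτ, rfl⟩
        rw [mem_centralizer_singleton_iff]
        have h4 : τ * ⟨d, mem_centralizer_singleton_iff.2 hdx⟩ = ⟨d, mem_centralizer_singleton_iff.2 hdx⟩ * τ :=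
          Subtype.ext (hdc _ ⟨τ, hτ, rfl⟩)
        exact congrArg (QuotientGroup.mk' (Zx (x : G))) h4
      exact (T.mapSurjective (QuotientGroup.mk'_surjective (Zx (x : G)))).not_dvd_index (h2.trans (index_dvd_of_le h3))
    obtain ⟨τ, h2, h3, h4⟩ := FiCent.exists_inv_of_iso hxF h1
    exact exists_lift_inv hxo hdx h2 h3 h4
  obtain ⟨g, hg⟩ := hex d hn hdinv
  -- a conjugate of `d` in `C(z)`
  have hd'z : (g⁻¹ * d * g) * z = z * (g⁻¹ * d * g) := by
    calc (g⁻¹ * d * g) * z = g⁻¹ * (d * (g * z * g⁻¹)) * g := by group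
      _ = g⁻¹ * ((g * z * g⁻¹) * d) * g := by rw [hg]
      _ = z * (g⁻¹ * d * g) := by group
  let d' : centralizer ({z} : Set G) := ⟨g⁻¹ * d * g, mem_centralizer_singleton_iff.2 hd'z⟩
  have hgd : g * (d' : G) * g⁻¹ = d := by
    show g * (g⁻¹ * d * g) * g⁻¹ = d
    group
  have hd' : orderOf d' = 3 := by
    rw [← Subgroup.orderOf_coe, ← hn, ← hgd]
    exact (orderOf_injective (MulAut.conj g).toMonoidHom (MulAut.conj g).injective (d' : G)).symm
  have hd'o : orderOf (d' : G) = 3 := by rw [Subgroup.orderOf_coe]; exact hd'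
  have hd'card : 3 ^ 20 ∣ Nat.card ↥(centralizer ({(d' : G)} : Set G)) := by
    obtain ⟨⟨e⟩, -⟩ := exists_XX_equiv hgd
    rw [Nat.card_congr e.toEquiv]
    exact hdcard
  -- the pair
  obtain ⟨x₀, u, g₀, hx₀, hfr₀, huz, hux, hne, hg₀⟩ := hpair
  have h812 : ∀ x : Subgroup.centralizer ({z} : Set G), orderOf x = 3 → (fr (pi x) = 2 ^ 8 ∨ fr (pi x) = 2 ^ 12) →
      IsSimpleGroup (XX (x : G)) ∧ Subgroup.center (XX (x : G)) ≠ ⊤ := fun x hx h2 =>
    ⟨(good_of_inputs h I hx h2).simple, (good_of_inputs h I hx h2).nc⟩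
  have hconj : ∃ k : G, k * (d' : G) * k⁻¹ = x₀ := by
    rcases I.ranks (pi d') (orderOf_pi h hd') with h1 | h1 | h1 | h1
    · obtain ⟨c, hc⟩ := h0 (pi d') (pi x₀) (orderOf_pi h hd') (orderOf_pi h hx₀) h1 hfr₀
      obtain ⟨k, hk⟩ := exists_conj_of_conj h (by rw [← hd', pow_orderOf_eq_one]) (by rw [← hx₀, pow_orderOf_eq_one]) hc
      exact ⟨k, congrArg Subtype.val hk⟩
    · exact conj_six h ht I.ranks I.six h812 hx₀ hfr₀ huz hux hne hg₀ hd' h1
    · exfalso
      obtain ⟨e⟩ := (iso_of_rank h I hd').1 h1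
      have h2 := card_cent hd'o ((Nat.card_congr e.toEquiv).trans Cfsg.Agent.S1700.result.2)
      rw [h2] at hd'card
      revert hd'card
      norm_num
    · exfalso
      obtain ⟨e⟩ := (iso_of_rank h I hd').2 h1
      have h2 := card_cent hd'o ((Nat.card_congr e.toEquiv).trans Cfsg.Agent.S1698.result.2)
      rw [h2] at hd'card
      revert hd'card
      norm_num
  obtain ⟨k, hk⟩ := hconj
  refine ⟨x₀, hx₀, hfr₀, k * g⁻¹ * g₁, ?_⟩
  rw [← hk]
  show k * g⁻¹ * g₁ * d₁ * (k * g⁻¹ * g₁)⁻¹ = k * (g⁻¹ * d * g) * k⁻¹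
  rw [hd]
  group

/-- the facts on `Suz` -/
theorem suz_facts {S : Type u} [Group S] (h : Spor.IsoSuz S) : IsSimpleGroup S ∧ Nat.card S = 448345497600 ∧
    ¬ Group.IsSolvable S := by
  obtain ⟨e⟩ := id h
  have hs : IsSimpleGroup S := (MulEquiv.isSimpleGroup_congr e).2 Cfsg.Agent.S1694.result.1
  have hc : Nat.card S = 448345497600 := by
    rw [Nat.card_congr e.toEquiv, Cfsg.Agent.S1694.result.2]
  refine ⟨hs, hc, ?_⟩
  intro h1
  have hf : Finite S := Nat.finite_of_card_ne_zero (by rw [hc]; norm_num)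
  let _ : CommGroup S := { (inferInstance : Group S) with
    mul_comm := (IsSimpleGroup.comm_iff_isSolvable (G := S)).2 h1 }
  have h3 : (Nat.card S).Prime := IsSimpleGroup.prime_card
  rw [hc] at h3
  revert h3
  norm_num

theorem inv_suz' {S : Type u} [Group S] (h : Spor.IsoSuz S) {r : ℕ} (hr : r.Prime) (hr2 : r ≠ 2) (hr3 : r ≠ 3) :
    Inv1 3 r S := by
  obtain ⟨h5, h7, h11, h13⟩ := inv_suz h
  obtain ⟨-, hc, -⟩ := suz_facts h
  have hf : Finite S := Nat.finite_of_card_ne_zero (by rw [hc]; norm_num)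
  by_cases hd : r ∣ Nat.card S
  · rw [hc, show 448345497600 = 2 ^ 13 * (3 ^ 7 * (5 ^ 2 * (7 * (11 * 13)))) by norm_num, hr.dvd_mul, hr.dvd_mul, hr.dvd_mul,
      hr.dvd_mul, hr.dvd_mul] at hd
    rcases hd with hd | hd | hd | hd | hd | hd
    · exact absurd ((Nat.prime_dvd_prime_iff_eq hr Nat.prime_two).1 (hr.dvd_of_dvd_pow hd)) hr2
    · exact absurd ((Nat.prime_dvd_prime_iff_eq hr Nat.prime_three).1 (hr.dvd_of_dvd_pow hd)) hr3
    · rwa [(Nat.prime_dvd_prime_iff_eq hr Nat.prime_five).1 (hr.dvd_of_dvd_pow hd)]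
    · rwa [(Nat.prime_dvd_prime_iff_eq hr (by norm_num)).1 hd]
    · rwa [(Nat.prime_dvd_prime_iff_eq hr (by norm_num)).1 hd]
    · rwa [(Nat.prime_dvd_prime_iff_eq hr (by norm_num)).1 hd]
  · exact inv1_of_not_dvd hr hd

/-- the centralizer of an element of fixed rank 0 -/
theorem inv_cent [Finite G] (h : Chart Q z eta pi) (I : CoOne) (ht : TrNe z pi)
    {x : Subgroup.centralizer ({z} : Set G)} (hx : orderOf x = 3) (hfr : fr (pi x) = 1) {k : G}
    (hkx : k * (x : G) = x * k) (hkk : k * k = z) {r b : ℕ} (hr : r.Prime) (hr2 : r ≠ 2) (hr3 : r ≠ 3)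
    (hb : ¬ r ^ (b + 1) ∣ Nat.card G) {s e : ℕ} (hs : s.Prime) (hsr : s ≠ r) (he : s ^ e ∣ 448345497600) (w : ℕ → ℕ)
    (hw : ∀ k, 1 ≤ k → k ≤ b → ¬ s ^ (w k + 1) ∣ r ^ k - 1) (hW : ∑ i ∈ Finset.range b, w (i + 1) < e) :
    Inv1 3 r ↥(centralizer ({(x : G)} : Set G)) := by
  have hS := I.suz _ (orderOf_pi h hx) hfr
  obtain ⟨f1, f2, f3⟩ := suz_facts hS
  obtain ⟨N, hN⟩ := BpSpor.M5.exists_rad h (by norm_num) hx hfr (fun d hd hc => isolated h ht hx hfr d hd hc) f1
    (by rw [f2]; decide)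
  have hkz : k * z = z * k := by rw [← hkk, mul_assoc]
  exact RadInv.inv1 hN f3 (by norm_num) (k := ⟨⟨k, mem_centralizer_singleton_iff.2 hkx⟩, mem_centralizer_singleton_iff.2
    (Subtype.ext hkz)⟩) (Subtype.ext hkk) hr hr2 hr3 (inv_suz' hS hr hr2 hr3)
    (fun h1 => hb (h1.trans (card_subgroup_dvd_card _))) hs hsr (by rw [f2]; exact he) w hw hW

end chart

/-! ### The model -/

open Cfsg.Agent.MonsterX Cfsg.Agent.MonsterX.InstData Cfsg.Agent.MonsterX.MainPack
open Cfsg.Agent.MonsterP Cfsg.Agent.MonsterN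
open Cfsg.Agent.MonsterX.MainBasic Cfsg.Agent.MonsterX.MainSimple Cfsg.Agent.MonsterX.Model

/-- a `3`-central element of order 3 of the model and its centralizer -/
theorem inv_model_cent {d : ↥InstData.M.G} (hd : orderOf d = 3) (hi : ¬ 3 ∣ (centralizer ({d} : Set ↥InstData.M.G)).index)
    {r b : ℕ} (hr : r.Prime) (hr2 : r ≠ 2) (hr3 : r ≠ 3)
    (hb : ¬ r ^ (b + 1) ∣ Nat.card ↥InstData.M.G) {s e : ℕ} (hs : s.Prime) (hsr : s ≠ r) (he : s ^ e ∣ 448345497600)
    (w : ℕ → ℕ) (hw : ∀ k, 1 ≤ k → k ≤ b → ¬ s ^ (w k + 1) ∣ r ^ k - 1)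
    (hW : ∑ i ∈ Finset.range b, w (i + 1) < e) : Inv1 3 r ↥(centralizer ({d} : Set ↥InstData.M.G)) := by
  have := Row.finite_model
  have := Row.simple_model
  obtain ⟨A, B, F⟩ := LThreeM.SigRow.facts_model
  have ht := KPair.trNe KDone.lft Row.cent (LThreeMBTr.traceNe KDone.lft LThreeMBTr.TensK.tens)
  have hC := KChart.chart KDone.lft Row.cent
  obtain ⟨x₀, hx₀, hfr, k, hk⟩ := exists_zero hC CoOneFin.coOne LThreeCo1.Ranks.zero ht
    (KPair.hasPair KDone.lft Row.cent Row.second COct.octPair) (by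
      rintro x hx ⟨v, hv, hv1, hc⟩
      exact LThreeM.FiRow.exists_z_of_comm (by rw [← hx, pow_orderOf_eq_one]) hv hv1 hc.symm) (by
      rw [F.card]
      norm_num) hd hi
  obtain ⟨A, hA, hAs⟩ := NegRoot.exists_root LThreeCo1.Ranks.zero (orderOf_pi hC hx₀) hfr
  obtain ⟨k', hk', hkk'⟩ := PreUniq.MonGen.exists_k KDone.lft Row.cent Nat.prime_three (by decide) hx₀ hfr hA hAs
  exact inv1_cent_of_conj hk (inv_cent hC CoOneFin.coOne ht hx₀ hfr hk' hkk' hr hr2 hr3 hb hs hsr he w hw hW)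

/-- **`Inv1 3 r` for the Monster** -/
theorem inv_m {G : Type*} [Group G] (h : Spor.IsoM G) {r : ℕ} (hr : r ∈ [5, 7, 11, 13, 17, 19, 23, 29, 31, 41, 47, 59, 71]) :
    Inv1 3 r G := by
  obtain ⟨e⟩ := h
  obtain ⟨f⟩ := Cfsg.Agent.MonsterP.Equiv.equiv
  refine Inv1.congr (e.trans f) ?_
  have := Row.finite_model
  have hc : Nat.card ↥InstData.M.G = _ := MonsterP.EquivOf.isM_model.2
  have key : ∀ {r b : ℕ} (s e : ℕ) (w v : ℕ → ℕ), r.Prime → r ≠ 2 → r ≠ 3 → ¬ r ^ (b + 1) ∣ Nat.card ↥InstData.M.G →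
      s.Prime → s ≠ r → s ^ e ∣ 448345497600 → (∀ k, 1 ≤ k → k ≤ b → ¬ s ^ (w k + 1) ∣ r ^ k - 1) →
      ∑ i ∈ Finset.range b, w (i + 1) < e → (∀ k, 1 ≤ k → k ≤ b → ¬ 3 ^ (v k + 1) ∣ r ^ k - 1) →
      ∑ i ∈ Finset.range b, v (i + 1) < 20 → Inv1 3 r ↥InstData.M.G := by
    intro r b s e w v hr hr2 hr3 hb hs hsr he hw hW hv hV
    exact inv1_of_cc Nat.prime_three hr hr3.symm (a := 20) (by rw [hc]; norm_num) hb v hv hV fun x hx hi =>
      inv_model_cent hx hi hr hr2 hr3 hb hs hsr he w hw hW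
  simp only [List.mem_cons, List.not_mem_nil, or_false] at hr
  rcases hr with rfl | rfl | rfl | rfl | rfl | rfl | rfl | rfl | rfl | rfl | rfl | rfl | rfl
  · exact key (b := 9) 3 7 (fun k => if k = 6 then 2 else if Even k then 1 else 0) (fun k => if k = 6 then 2 else if Even k then 1 else 0)
      (by norm_num) (by norm_num) (by norm_num) (by rw [hc]; norm_num) (by norm_num) (by norm_num) (by norm_num)
      (by decide) (by decide) (by decide) (by decide)
  · exact key (b := 6) 13 1 (fun _ => 0) (fun k => if k = 3 ∨ k = 6 then 2 else 1)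
      (by norm_num) (by norm_num) (by norm_num) (by rw [hc]; norm_num) (by norm_num) (by norm_num) (by norm_num)
      (by decide) (by decide) (by decide) (by decide)
  · exact key (b := 2) 13 1 (fun _ => 0) (fun _ => 1)
      (by norm_num) (by norm_num) (by norm_num) (by rw [hc]; norm_num) (by norm_num) (by norm_num) (by norm_num)
      (by decide) (by decide) (by decide) (by decide)
  · exact key (b := 3) 11 1 (fun _ => 0) (fun _ => 2)
      (by norm_num) (by norm_num) (by norm_num) (by rw [hc]; norm_num) (by norm_num) (by norm_num) (by norm_num)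
      (by decide) (by decide) (by decide) (by decide)
  all_goals
    exact key (b := 1) 13 1 (fun _ => 0) (fun _ => 3)
      (by norm_num) (by norm_num) (by norm_num) (by rw [hc]; norm_num) (by norm_num) (by norm_num) (by norm_num)
      (by decide) (by decide) (by decide) (by decide)

end Cfsg.Agent.H573.Hall.MThr
end
end
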